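import Mathlib.RingTheory.TensorProduct.Maps
import Mathlib.RingTheory.FinitePresentation
import Mathlib.RingTheory.Finiteness.Projective

/-!
Weil restriction of algebras along a finite projective algebra.
-/

universe u

open TensorProduct

namespace GrothLib.WeilAffine

variable {R A : Type u} [CommRing R] [CommRing A] [Algebra R A]

/-- The coefficient against a functional. -/
noncomputable def coef (c : A →ₗ[R] R) (C : Type u) [CommRing C] [Algebra R C] : A ⊗[R] C →ₗ[R] C :=
  (TensorProduct.lid R C).toLinearMap ∘ₗ TensorProduct.map c LinearMap.id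

theorem coef_tmul (c : A →ₗ[R] R) {C : Type u} [CommRing C] [Algebra R C] (a : A) (x : C) :
    coef c C (a ⊗ₜ x) = c a • x := by
  simp [coef]

theorem coef_map (c : A →ₗ[R] R) {C D : Type u} [CommRing C] [Algebra R C] [CommRing D] [Algebra R D]
    (g : C →ₐ[R] D) (z : A ⊗[R] C) :
    coef c D (Algebra.TensorProduct.map (AlgHom.id R A) g z) = g (coef c C z) := by
  induction z with
  | zero => simp
  | add a b ha hb => simp [ha, hb]
  | tmul a x => simp [coef_tmul]

theorem sum_coef {n : ℕ} (e : Fin n → A) (c : Fin n → A →ₗ[R] R) (h : ∀ a, ∑ i, c i a • e i = a)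
    {C : Type u} [CommRing C] [Algebra R C] (z : A ⊗[R] C) : ∑ i, e i ⊗ₜ coef (c i) C z = z := by
  induction z with
  | zero => simp
  | add a b ha hb => simp [TensorProduct.tmul_add, Finset.sum_add_distrib, ha, hb]
  | tmul a x =>
    simp only [coef_tmul, TensorProduct.tmul_smul, TensorProduct.smul_tmul', ← TensorProduct.sum_tmul]
    rw [h]

theorem exists_dualBasis (R A : Type u) [CommRing R] [CommRing A] [Algebra R A] [Module.Finite R A]
    [Module.Projective R A] :
    ∃ (n : ℕ) (e : Fin n → A) (c : Fin n → A →ₗ[R] R), ∀ a, ∑ i, c i a • e i = a := by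
  obtain ⟨n, f, g, -, -, hfg⟩ := Module.Finite.exists_comp_eq_id_of_projective R A
  refine ⟨n, fun i => f (Pi.single i 1), fun i => (LinearMap.proj i).comp g, fun a => ?_⟩
  have h1 : f (∑ i, g a i • Pi.single i (1 : R)) = a := by
    have : ∑ i, g a i • Pi.single i (1 : R) = g a := by
      funext j
      simp [Finset.sum_apply, Pi.single_apply]
    rw [this]
    exact LinearMap.congr_fun hfg a
  rw [map_sum] at h1
  simpa using h1

variable (R) (A) in
/-- The Weil restriction of a presented algebra exists. -/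
theorem exists_weil_of_presentation [Module.Finite R A] [Module.Projective R A] {B : Type u} [CommRing B]
    [Algebra R B] {σ : Type u} (π : MvPolynomial σ R →ₐ[R] B) (hπ : Function.Surjective π)
    (G : Set (MvPolynomial σ R)) (hG : Ideal.span G = RingHom.ker π) :
    ∃ (W : Type u) (_ : CommRing W) (_ : Algebra R W) (θ : B →ₐ[R] A ⊗[R] W),
      (∀ (C : Type u) [CommRing C] [Algebra R C] (f : B →ₐ[R] A ⊗[R] C),
        ∃! g : W →ₐ[R] C, (Algebra.TensorProduct.map (AlgHom.id R A) g).comp θ = f) ∧
      (Finite σ → Algebra.FiniteType R W) ∧ (Finite σ → G.Finite → Algebra.FinitePresentation R W) := by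
  obtain ⟨n, e, c, hec⟩ := exists_dualBasis R A
  set P := MvPolynomial (σ × Fin n) R
  set θ₀ : MvPolynomial σ R →ₐ[R] A ⊗[R] P := MvPolynomial.aeval fun s => ∑ i, e i ⊗ₜ MvPolynomial.X (s, i)
  set rel : Set P := Set.range (fun p : σ × Fin n => MvPolynomial.X p - coef (c p.2) P (θ₀ (MvPolynomial.X p.1))) ∪
    ⋃ i, (fun q => coef (c i) P (θ₀ q)) '' G
  set I : Ideal P := Ideal.span rel
  set W := P ⧸ I
  set mk : P →ₐ[R] W := Ideal.Quotient.mkₐ R I
  set Θ : MvPolynomial σ R →ₐ[R] A ⊗[R] W := (Algebra.TensorProduct.map (AlgHom.id R A) mk).comp θ₀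
  have hker : ∀ q ∈ RingHom.ker π, Θ q = 0 := by
    intro q hq
    have hle : Ideal.span G ≤ RingHom.ker Θ := by
      rw [Ideal.span_le]
      intro g hg
      change Θ g = 0
      rw [← sum_coef e c hec (Θ g)]
      refine Finset.sum_eq_zero fun i _ => ?_
      change e i ⊗ₜ coef (c i) W (Algebra.TensorProduct.map (AlgHom.id R A) mk (θ₀ g)) = 0
      rw [coef_map]
      have h0 : mk (coef (c i) P (θ₀ g)) = 0 :=
        Ideal.Quotient.eq_zero_iff_mem.mpr (Ideal.subset_span (Or.inr (Set.mem_iUnion.mpr ⟨i, g, hg, rfl⟩)))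
      rw [h0, TensorProduct.tmul_zero]
    exact hle (hG.symm ▸ hq)
  set θ : B →ₐ[R] A ⊗[R] W :=
    (Ideal.Quotient.liftₐ (RingHom.ker π) Θ hker).comp
      (Ideal.quotientKerAlgEquivOfSurjective hπ).symm.toAlgHom
  have hθ : ∀ q, θ (π q) = Θ q := fun q => by
    have h1 : (Ideal.quotientKerAlgEquivOfSurjective hπ).symm (π q) = Ideal.Quotient.mk _ q := by
      apply (Ideal.quotientKerAlgEquivOfSurjective hπ).injective
      rw [AlgEquiv.apply_symm_apply]
      rfl
    change Ideal.Quotient.liftₐ (RingHom.ker π) Θ hker ((Ideal.quotientKerAlgEquivOfSurjective hπ).symm (π q)) = Θ q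
    rw [h1]
    rfl
  refine ⟨W, inferInstance, inferInstance, θ, fun C _ _ f => ?_, fun hσ => ?_, fun hσ hGf => ?_⟩
  · set g₀ : P →ₐ[R] C := MvPolynomial.aeval fun p => coef (c p.2) C (f (π (MvPolynomial.X p.1)))
    have hgX : ∀ p, g₀ (MvPolynomial.X p) = coef (c p.2) C (f (π (MvPolynomial.X p.1))) :=
      fun p => MvPolynomial.aeval_X _ _
    have hg₀ : (Algebra.TensorProduct.map (AlgHom.id R A) g₀).comp θ₀ = f.comp π := by
      refine MvPolynomial.algHom_ext fun s => ?_
      rw [AlgHom.comp_apply, AlgHom.comp_apply, MvPolynomial.aeval_X, map_sum]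
      simp only [Algebra.TensorProduct.map_tmul, AlgHom.id_apply, hgX]
      exact sum_coef e c hec _
    have hI : ∀ x ∈ I, g₀ x = 0 := by
      intro x hx
      have hle : I ≤ RingHom.ker g₀ := by
        rw [Ideal.span_le]
        rintro y (⟨p, rfl⟩ | hy)
        · change g₀ _ = 0
          rw [map_sub, ← coef_map, show Algebra.TensorProduct.map (AlgHom.id R A) g₀ (θ₀ _) = f (π _) from
            AlgHom.congr_fun hg₀ _]
          rw [hgX, sub_self]
        · obtain ⟨i, q, hq, rfl⟩ := Set.mem_iUnion.mp hy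
          change g₀ _ = 0
          rw [← coef_map, show Algebra.TensorProduct.map (AlgHom.id R A) g₀ (θ₀ q) = f (π q) from
            AlgHom.congr_fun hg₀ q]
          have : π q = 0 := (RingHom.mem_ker).mp (hG ▸ Ideal.subset_span hq)
          rw [this, map_zero, map_zero]
      exact hle hx
    set g : W →ₐ[R] C := Ideal.Quotient.liftₐ I g₀ hI
    refine ⟨g, ?_, fun g' hg' => ?_⟩
    · refine AlgHom.ext fun b => ?_
      obtain ⟨q, rfl⟩ := hπ b
      rw [AlgHom.comp_apply, hθ]
      refine ((AlgHom.congr_fun (Algebra.TensorProduct.map_comp (AlgHom.id R A) (AlgHom.id R A) g mk) (θ₀ q)).symm).trans ?_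
      rw [show g.comp mk = g₀ from Ideal.Quotient.liftₐ_comp I g₀ hI, AlgHom.id_comp]
      exact AlgHom.congr_fun hg₀ q
    · have hmk : g'.comp mk = g₀ := by
        refine MvPolynomial.algHom_ext fun p => ?_
        have h1 : mk (MvPolynomial.X p) = coef (c p.2) W (Θ (MvPolynomial.X p.1)) := by
          rw [show coef (c p.2) W (Θ (MvPolynomial.X p.1)) = mk (coef (c p.2) P (θ₀ (MvPolynomial.X p.1))) from
            coef_map _ mk _]
          exact Ideal.Quotient.eq.mpr (Ideal.subset_span (Or.inl ⟨p, rfl⟩))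
        rw [AlgHom.comp_apply, h1, ← coef_map, ← hθ,
          show Algebra.TensorProduct.map (AlgHom.id R A) g' (θ (π _)) = f (π _) from AlgHom.congr_fun hg' _, hgX]
      refine Ideal.Quotient.algHom_ext R ?_
      rw [show (Ideal.Quotient.mkₐ R I) = mk from rfl, hmk]
      exact (Ideal.Quotient.liftₐ_comp I g₀ hI).symm
  · exact Algebra.FiniteType.of_surjective mk Ideal.Quotient.mk_surjective
  · have hrel : rel.Finite := (Set.finite_range _).union (Set.finite_iUnion fun i => hGf.image _)
    exact Algebra.FinitePresentation.quotient ⟨hrel.toFinset, by rw [Set.Finite.coe_toFinset]⟩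

/-- Weil restrictions of algebras along finite projective algebras exist, preserving finiteness. -/
theorem exists_weil (R A B : Type u) [CommRing R] [CommRing A] [Algebra R A] [CommRing B] [Algebra R B]
    [Module.Finite R A] [Module.Projective R A] :
    ∃ (W : Type u) (_ : CommRing W) (_ : Algebra R W) (θ : B →ₐ[R] A ⊗[R] W),
      (∀ (C : Type u) [CommRing C] [Algebra R C] (f : B →ₐ[R] A ⊗[R] C),
        ∃! g : W →ₐ[R] C, (Algebra.TensorProduct.map (AlgHom.id R A) g).comp θ = f) ∧
      (Algebra.FiniteType R B → Algebra.FiniteType R W) ∧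
      (Algebra.FinitePresentation R B → Algebra.FinitePresentation R W) := by
  by_cases hfp : Algebra.FinitePresentation R B
  · obtain ⟨σ, _, π, hπ, hker⟩ := Algebra.FinitePresentation.iff_quotient_mvPolynomial'.mp hfp
    obtain ⟨s, hs⟩ := hker
    obtain ⟨W, _, _, θ, h1, h2, h3⟩ := exists_weil_of_presentation R A π hπ (s : Set _) hs
    exact ⟨W, _, _, θ, h1, fun _ => h2 inferInstance, fun _ => h3 inferInstance s.finite_toSet⟩
  by_cases hft : Algebra.FiniteType R B
  · obtain ⟨σ, _, π, hπ⟩ := Algebra.FiniteType.iff_quotient_mvPolynomial'.mp hft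
    obtain ⟨W, _, _, θ, h1, h2, -⟩ := exists_weil_of_presentation R A π hπ _ (Ideal.span_eq _)
    exact ⟨W, _, _, θ, h1, fun _ => h2 inferInstance, fun h => absurd h hfp⟩
  obtain ⟨W, _, _, θ, h1, -, -⟩ := exists_weil_of_presentation R A (MvPolynomial.aeval (id : B → B))
    (fun b => ⟨MvPolynomial.X b, by simp⟩) _ (Ideal.span_eq _)
  exact ⟨W, _, _, θ, h1, fun h => absurd h hft, fun h => absurd h hfp⟩

end GrothLib.WeilAffine
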